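import Groth.Agent.FlatAssLib.RelAss
import Groth.Agent.PullbackMod.Flat
import Groth.Agent.PullbackMod.LimPSp
import Groth.Agent.NodalLib.Family
import Groth.Agent.DimFormulaLib.Misc
import Groth.Agent.S9780
import Groth.Prelude.Def_FlatFun

/-!
# Flatness in dimensions at least `n` and etale morphisms
-/

set_option autoImplicit false
set_option linter.style.haveILetI false
set_option backward.isDefEq.respectTransparency false
set_option backward.isDefEq.respectTransparency.types false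
set_option backward.defeqAttrib.useBackward true

universe u

open CategoryTheory CategoryTheory.Limits AlgebraicGeometry TopologicalSpace Opposite

namespace Groth.Agent.EtaleDim

section Point

variable {X Y : Scheme.{u}} (f : X ⟶ Y)

/-- Flatness at the relative associated points of the fibre generalising a point is flatness at it. -/
theorem isFlatOverAt_of_relAssBelow [LocallyOfFiniteType f] (F : X.Modules) [Coh.IsQCoh F] (hF : CohB1.IsFT F)
    (y : X) (h : ∀ x ∈ MoreMor.relAss f F, x ⤳ y → f x = f y → FlatMod.IsFlatOverAt f F x) :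
    FlatMod.IsFlatOverAt f F y := by
  obtain ⟨_, ⟨V : Y.Opens, (hV : IsAffineOpen V), rfl⟩, hyV, -⟩ :=
    Y.isBasis_affineOpens.exists_subset_of_mem_open (Set.mem_univ (f y)) isOpen_univ
  obtain ⟨_, ⟨W : X.Opens, (hW : IsAffineOpen W), rfl⟩, hyW, hWV⟩ :=
    X.isBasis_affineOpens.exists_subset_of_mem_open (a := y) (u := ↑(f ⁻¹ᵁ V)) hyV (f ⁻¹ᵁ V).2
  have hft := f.finiteType_appLE hV hW hWV
  letI := (f.appLE V W hWV).hom.toAlgebra
  haveI : Algebra.FiniteType Γ(Y, V) Γ(X, W) := hft
  letI := Module.compHom Γ(F, W) (f.appLE V W hWV).hom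
  haveI : IsScalarTower Γ(Y, V) Γ(X, W) Γ(F, W) := .of_algebraMap_smul fun _ _ => rfl
  haveI := QCohLib.finite_sections F hF hW
  haveI : (AssLib.pr hW hyW).LiesOver (hV.primeIdealOf ⟨f y, hWV hyW⟩).asIdeal :=
    ⟨congr($(IsAffineOpen.comap_primeIdealOf_appLE V hV W hW hWV hyW).1).symm⟩
  refine (FlatLocus.isFlatOverAt_iff f F hV hW hWV y hyW).mpr
    (Groth.Agent.FlatAssLib.flatAt_of_assBelow (hV.primeIdealOf ⟨f y, hWV hyW⟩).asIdeal _ fun P hP r _ hr => ?_)
  haveI := hP.1.1
  let x := AssLib.pt hW ⟨r, ‹_›⟩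
  have hx : x ∈ W := AssLib.pt_mem hW _
  have hpr : AssLib.pr hW hx = r := AssLib.pr_pt hW _
  have hlo := Groth.Agent.FibAssLib.comap_liesOver (hV.primeIdealOf ⟨f y, hWV hyW⟩).asIdeal P
  have hp : (hV.primeIdealOf ⟨f x, hWV hx⟩).asIdeal = (hV.primeIdealOf ⟨f y, hWV hyW⟩).asIdeal := by
    rw [← congr($(IsAffineOpen.comap_primeIdealOf_appLE V hV W hW hWV hx).1), PrimeSpectrum.comap_asIdeal]
    change (AssLib.pr hW hx).comap _ = _
    rw [hpr, hr]
    exact hlo.over.symm
  have hle : r ≤ AssLib.pr hW hyW := by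
    rw [hr]
    exact (Ideal.comap_mono hP.2).trans (Groth.Agent.FibAssLib.fiberIdeal_spec (R := Γ(Y, V)) _ _).2.le
  have hsp : x ⤳ y := by
    have h0 := ((PrimeSpectrum.le_iff_specializes ⟨r, ‹_›⟩ (hW.primeIdealOf ⟨y, hyW⟩)).1 hle).map hW.fromSpec.continuous
    rw [hW.fromSpec_primeIdealOf ⟨y, hyW⟩] at h0
    exact h0
  have hfx : f x = f y := by
    exact (hV.fromSpec_primeIdealOf ⟨f x, hWV hx⟩).symm.trans
      ((congrArg hV.fromSpec (PrimeSpectrum.ext hp)).trans (hV.fromSpec_primeIdealOf ⟨f y, hWV hyW⟩))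
  have hflat := h x (FlatAssLib.mem_relAss_of_fibre f F hV hW hWV x hx (FlatAssLib.mem_assocFibre_congr hp.symm hpr.symm
    (by rw [Groth.Agent.FibAssLib.eq_fiberIdeal_of_comap _ hr.symm]; exact hP.1))) hsp hfx
  have h2 := (FlatLocus.isFlatOverAt_iff f F hV hW hWV x hx).mp hflat
  show Module.Flat Γ(Y, V) (LocalizedModule r.primeCompl Γ(F, W))
  convert h2 using 3 <;> exact hpr.symm

end Point

section BaseChange

variable {X X' S : Scheme.{u}} (f : X ⟶ S) (h : X' ⟶ X) (T : Over S)

/-- The map between the base changes. -/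
noncomputable def φT : pullback (h ≫ f) T.hom ⟶ pullback f T.hom :=
  pullback.lift (pullback.fst (h ≫ f) T.hom ≫ h) (pullback.snd (h ≫ f) T.hom) (by
    rw [Category.assoc]; exact pullback.condition)

theorem φT_fst : φT f h T ≫ pullback.fst f T.hom = pullback.fst (h ≫ f) T.hom ≫ h := pullback.lift_fst _ _ _

theorem φT_snd : φT f h T ≫ pullback.snd f T.hom = pullback.snd (h ≫ f) T.hom := pullback.lift_snd _ _ _

theorem isPullback_φT : IsPullback (pullback.fst (h ≫ f) T.hom) (φT f h T) h (pullback.fst f T.hom) := by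
  refine IsPullback.of_bot ?_ (φT_fst f h T).symm (IsPullback.of_hasPullback f T.hom)
  rw [φT_snd]
  exact IsPullback.of_hasPullback (h ≫ f) T.hom

instance [Etale h] : Etale (φT f h T) :=
  MorphismProperty.of_isPullback (P := @Etale) (isPullback_φT f h T) inferInstance

variable (F : X.Modules)

/-- The base change of the inverse image. -/
noncomputable def φTiso : FGA.ET (h ≫ f) ((Scheme.Modules.pullback h).obj F) T ≅
    (Scheme.Modules.pullback (φT f h T)).obj (FGA.ET f F T) :=
  (Scheme.Modules.pullbackComp (pullback.fst (h ≫ f) T.hom) h).app F ≪≫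
    (Scheme.Modules.pullbackCongr (φT_fst f h T).symm).app F ≪≫
    ((Scheme.Modules.pullbackComp (φT f h T) (pullback.fst f T.hom)).app F).symm

variable [Coh.IsQCoh F] [Etale h]

theorem flatAt_iff (z : ↥(pullback (h ≫ f) T.hom)) :
    FlatMod.IsFlatOverAt (pullback.snd (h ≫ f) T.hom) (FGA.ET (h ≫ f) ((Scheme.Modules.pullback h).obj F) T) z ↔
      FlatMod.IsFlatOverAt (pullback.snd f T.hom) (FGA.ET f F T) (φT f h T z) := by
  haveI := PullbackMod.isQCoh_pullback (pullback.fst f T.hom) F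
  rw [← φT_snd f h T]
  refine Iff.trans ⟨fun h1 => PullbackMod.isFlatOverAt_of_iso (φTiso f h T F) _ z h1,
    fun h1 => PullbackMod.isFlatOverAt_of_iso (φTiso f h T F).symm _ z h1⟩
    (PullbackMod.isFlatOverAt_pullback_comp_iff (φT f h T) (pullback.snd f T.hom) _ z (Flat.stalkMap _ z))

omit [Coh.IsQCoh F] in
theorem trdeg_eq [LocallyOfFiniteType f] (z : ↥(pullback (h ≫ f) T.hom)) :
    Dual3.resTrdeg (pullback.snd (h ≫ f) T.hom) z = Dual3.resTrdeg (pullback.snd f T.hom) (φT f h T z) := by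
  rw [← φT_snd f h T]
  haveI := NodalLib.locallyQuasiFinite_of_unramified (φT f h T)
  exact (FlatDim.resTrdegAt_comp _ _ _).trans (by
    rw [GenIrredLib.resTrdegAt_locallyQuasiFinite (φT f h T), add_zero]; rfl)

variable [LocallyOfFiniteType f] (n : ℕ)

theorem dimFibresLT_pullback
    (hT : FlatFun.DimFibresLT n (pullback.snd f T.hom)
      {x | ¬ FlatMod.IsFlatOverAt (pullback.snd f T.hom) (FGA.ET f F T) x}) :
    FlatFun.DimFibresLT n (pullback.snd (h ≫ f) T.hom)
      {x | ¬ FlatMod.IsFlatOverAt (pullback.snd (h ≫ f) T.hom) (FGA.ET (h ≫ f) ((Scheme.Modules.pullback h).obj F) T) x} :=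
  fun z hz => (trdeg_eq f h T z).trans_lt (hT _ fun h1 => hz ((flatAt_iff f h T F z).2 h1))

theorem dimFibresLT_of_pullback (hF : CohB1.IsFT F) (hAss : MoreMor.relAss f F ⊆ Set.range h.base)
    (hT : FlatFun.DimFibresLT n (pullback.snd (h ≫ f) T.hom)
      {x | ¬ FlatMod.IsFlatOverAt (pullback.snd (h ≫ f) T.hom) (FGA.ET (h ≫ f) ((Scheme.Modules.pullback h).obj F) T) x}) :
    FlatFun.DimFibresLT n (pullback.snd f T.hom)
      {x | ¬ FlatMod.IsFlatOverAt (pullback.snd f T.hom) (FGA.ET f F T) x} := by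
  intro y hy
  by_contra hlt
  haveI := PullbackMod.isQCoh_pullback (pullback.fst f T.hom) F
  refine hy (isFlatOverAt_of_relAssBelow (pullback.snd f T.hom) (FGA.ET f F T)
    (PullbackMod.isFiniteType_pullback _ F hF) y fun x hx hxy hfx => ?_)
  let U : X.Opens := ⟨Set.range h.base, h.isOpenMap.isOpen_range⟩
  have hsub := (S9780.result f F hF U T.hom (pullback.snd f T.hom) (pullback.fst f T.hom)
    (IsPullback.of_hasPullback f T.hom) (pullback.snd f T.hom x)).1 (fun a ha => hAss ha.1) ⟨hx, rfl⟩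
  obtain ⟨a, ha⟩ := hsub
  obtain ⟨w, -, hw2⟩ := Scheme.exists_preimage_of_isPullback (isPullback_φT f h T) a x ha
  rw [← hw2]
  by_contra hn
  have hlt' : Dual3.resTrdeg (pullback.snd f T.hom) x < (n : Cardinal.{u}) := by
    rw [← hw2, ← trdeg_eq f h T w]
    exact hT w (fun h1 => hn ((flatAt_iff f h T F w).1 h1))
  by_cases hne : x = y
  · exact hlt (hne ▸ hlt')
  · exact hlt ((DimFormulaLib.trdeg_lt_of_specializes (pullback.snd f T.hom) x y hxy hne hfx).trans hlt')

end BaseChange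

end Groth.Agent.EtaleDim
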